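import Groth.Agent.CountPerf.Sections
import Groth.Agent.CountHom7.Basic
import Groth.Agent.PerfSeq.Basic
import Groth.Agent.S1003
import Groth.Agent.S1040
import Mathlib.Data.Nat.Pairing
import Mathlib.Data.Countable.Basic

/-! # Countable cell attachment by perfect objects -/

set_option autoImplicit false
set_option linter.style.haveILetI false
set_option backward.isDefEq.respectTransparency false

universe u

open CategoryTheory CategoryTheory.Limits AlgebraicGeometry Pretriangulated DerLim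

attribute [local instance] HasDerivedCategory.standard

noncomputable section

namespace Groth.Agent.CountPerf

open Groth.Agent.KFlatLib Groth.Agent.TriCat

variable {X : Scheme.{u}}

/-- An enumeration of the integers. -/
def kf : ℕ → ℤ := (exists_surjective_nat ℤ).choose

lemma kf_surjective : Function.Surjective kf := (exists_surjective_nat ℤ).choose_spec

lemma isPerfect_shift {P : DCoh.D X} (hP : DCoh.IsPerfect P) (n : ℤ) : DCoh.IsPerfect (P⟦n⟧) :=
  (isPerfect_iff _).2 (((isPerfect_iff P).1 hP).shift n)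

lemma isPerfect_biprod {P Q : DCoh.D X} (hP : DCoh.IsPerfect P) (hQ : DCoh.IsPerfect Q) :
    DCoh.IsPerfect (P ⊞ Q) :=
  (isPerfect_iff _).2 ((locSP_two_of_three _ (binaryBiproductTriangle_distinguished P Q)).2.1
    ((isPerfect_iff P).1 hP) ((isPerfect_iff Q).1 hQ))

/-- One cell is killed. -/
lemma exists_kill {A P K : DCoh.D X} (hA : DCoh.IsPerfect A) (hP : DCoh.IsPerfect P) (φ : A ⟶ P) (α : P ⟶ K) :
    ∃ (P' : DCoh.D X) (g : P ⟶ P') (α' : P' ⟶ K), DCoh.IsPerfect P' ∧ g ≫ α' = α ∧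
      (φ ≫ α = 0 → φ ≫ g = 0) := by
  by_cases h : φ ≫ α = 0
  · obtain ⟨P', g, d, hT⟩ := distinguished_cocone_triangle φ
    obtain ⟨α', hα'⟩ := Triangle.yoneda_exact₂ _ hT α h
    exact ⟨P', g, α', (isPerfect_iff _).2 (locSP_obj₃ _ hT ((isPerfect_iff A).1 hA) ((isPerfect_iff P).1 hP)),
      hα'.symm, fun _ => comp_distTriang_mor_zero₁₂ _ hT⟩
  · exact ⟨P, 𝟙 P, α, hP, Category.id_comp _, fun h' => absurd h' h⟩

/-- A stage of the cell attachment: a perfect object over `K`, with the pending cells of all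
earlier stages. -/
structure State (G K : DCoh.D X) where
  P : DCoh.D X
  α : P ⟶ K
  perf : DCoh.IsPerfect P
  pend : ℕ → ∀ a : ℕ, ℕ → (G⟦kf a⟧ ⟶ P)

variable [CompactSpace X] [QuasiSeparatedSpace X]

lemma countable_hom_perfect
    (hX : ∀ U : X.Opens, IsAffineOpen U → Countable (X.presheaf.obj (Opposite.op U)))
    {A P : DCoh.D X} (hA : DCoh.IsPerfect A) (hP : DCoh.IsPerfect P) : Countable (A ⟶ P) := by
  have hq := PerfSeq.isQCohD_of_perfect hP
  haveI := CountHom7.countHom_of_isPerfect hq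
    (fun V hV i => countable_HD_of_isPerfect hX hP hq V hV i) hA 0
  exact Function.Injective.countable (f := fun φ : A ⟶ P => φ ≫ (shiftFunctorZero _ ℤ).inv.app P)
    fun φ φ' h => (cancel_mono ((shiftFunctorZero _ ℤ).inv.app P)).1 h

lemma exists_state_step
    (hX : ∀ U : X.Opens, IsAffineOpen U → Countable (X.presheaf.obj (Opposite.op U)))
    {G K : DCoh.D X} (hG : DCoh.IsPerfect G) (elem : ∀ a : ℕ, ℕ → (G⟦kf a⟧ ⟶ K)) (N : ℕ)
    (S : State G K) :
    ∃ (T : State G K) (f : S.P ⟶ T.P), f ≫ T.α = S.α ∧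
      (∀ a b, N = Nat.pair a b → ∃ t : G⟦kf a⟧ ⟶ T.P, t ≫ T.α = elem a b) ∧
      (∀ m a b, N = Nat.pair m (Nat.pair a b) → S.pend m a b ≫ S.α = 0 → S.pend m a b ≫ f = 0) ∧
      (∀ m a b, m ≠ N + 1 → T.pend m a b = S.pend m a b ≫ f) ∧
      (∀ a, Function.Surjective (T.pend (N + 1) a)) := by
  obtain ⟨a₁, b₁, hN₁⟩ : ∃ a b, N = Nat.pair a b :=
    ⟨N.unpair.1, N.unpair.2, (Nat.pair_unpair N).symm⟩
  let A := G⟦kf a₁⟧
  let β : S.P ⊞ A ⟶ K := biprod.desc S.α (elem a₁ b₁)
  obtain ⟨m₀, a₀, b₀, hN₀⟩ : ∃ m a b, N = Nat.pair m (Nat.pair a b) :=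
    ⟨N.unpair.1, N.unpair.2.unpair.1, N.unpair.2.unpair.2, by rw [Nat.pair_unpair, Nat.pair_unpair]⟩
  obtain ⟨P', g, α', hP', hg, hkill⟩ := exists_kill
    (isPerfect_shift hG (kf a₀)) (isPerfect_biprod S.perf (isPerfect_shift hG _))
    (S.pend m₀ a₀ b₀ ≫ biprod.inl) β
  have hen : ∀ a, ∃ e : ℕ → (G⟦kf a⟧ ⟶ P'), Function.Surjective e := fun a =>
    haveI := countable_hom_perfect hX (isPerfect_shift hG (kf a)) hP'
    exists_surjective_nat _
  choose e he using hen
  let f : S.P ⟶ P' := biprod.inl ≫ g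
  refine ⟨⟨P', α', hP', fun m a b => if m = N + 1 then e a b else S.pend m a b ≫ f⟩, f, ?_,
    fun a b hab => ?_, ?_, fun m a b hm => if_neg hm, fun a => ?_⟩
  · show (biprod.inl ≫ g) ≫ α' = S.α
    rw [Category.assoc, hg, biprod.inl_desc]
  · obtain ⟨rfl, rfl⟩ := Nat.pair_eq_pair.1 (hN₁.symm.trans hab)
    refine ⟨biprod.inr ≫ g, ?_⟩
    show (biprod.inr ≫ g) ≫ α' = elem _ _
    rw [Category.assoc, hg, biprod.inr_desc]
  · intro m a b hN h
    obtain ⟨rfl, h'⟩ := Nat.pair_eq_pair.1 (hN₀.symm.trans hN)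
    obtain ⟨rfl, rfl⟩ := Nat.pair_eq_pair.1 h'
    show S.pend _ _ _ ≫ biprod.inl ≫ g = 0
    rw [← Category.assoc]
    refine hkill ?_
    rw [Category.assoc, biprod.inl_desc]
    exact h
  · show Function.Surjective fun b => if N + 1 = N + 1 then e a b else _
    simp only [if_true]
    exact he a

/-- A morphism from a perfect object into a coproduct of objects of `D_QCoh` is a finite sum. -/
lemma finFactor_of_perfect {C : DCoh.D X} (hC : DCoh.IsPerfect C) [HasColimitsOfShape (Discrete ℕ) (DCoh.D X)]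
    {E : ℕ → DCoh.D X} (hE : ∀ n, DCoh.IsQCohD (E n)) (g : C ⟶ ∐ E) : FinFactor g := by
  classical
  haveI : HasColimitsOfShape (Discrete (ULift.{u} ℕ)) (DCoh.D X) :=
    hasColimitsOfShape_of_equivalence (Discrete.equivalence Equiv.ulift.symm)
  let E' : ULift.{u} ℕ → DCoh.D X := fun k => E k.down
  let e : ∐ E' ≅ ∐ E :=
    { hom := Sigma.desc fun k => Sigma.ι E k.down
      inv := Sigma.desc fun n => Sigma.ι E' ⟨n⟩
      hom_inv_id := by ext ⟨n⟩; simp [E']
      inv_hom_id := by ext n; simp [E'] }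
  have hfin : ∀ f : C ⟶ ∐ E', FinFactor f := by
    intro f
    obtain ⟨x, rfl⟩ :=
      ((Groth.Agent.S1003.result X C (PerfSeq.isQCohD_of_perfect hC)).2 hC (ULift.{u} ℕ) E'
        (fun k => hE k.down)).2 f
    induction x using DirectSum.induction_on with
    | zero => rw [map_zero]; exact FinFactor.zero
    | of i a =>
      have : PerfAux.homSumToHomCoprod C E' (DirectSum.of (fun i => C ⟶ E' i) i a) = a ≫ Sigma.ι E' i := by
        simp only [PerfAux.homSumToHomCoprod]
        erw [DirectSum.toAddMonoid_of]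
        rfl
      rw [this]; exact FinFactor.postcomp_ι i a
    | add x y hx hy => rw [map_add]; exact hx.add hy
  obtain ⟨s, a, ha⟩ := hfin (g ≫ e.inv)
  refine ⟨s.image ULift.down, fun n => a ⟨n⟩, ?_⟩
  rw [Finset.sum_image (fun _ _ _ _ h => ULift.ext _ _ h), ← Category.comp_id g, ← e.inv_hom_id,
    ← Category.assoc, ha, Preadditive.sum_comp]
  exact Finset.sum_congr rfl fun k _ => by simp [e, E']

/-- A morphism from a perfect object into a homotopy colimit factors through a stage. -/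
lemma exists_factor_of_perfect {C : DCoh.D X} (hC : DCoh.IsPerfect C)
    [HasColimitsOfShape (Discrete ℕ) (DCoh.D X)] {E : ℕ → DCoh.D X} {f : ∀ n, E n ⟶ E (n + 1)}
    {L : DCoh.D X} {i : ∀ n, E n ⟶ L} (hE : ∀ n, DCoh.IsQCohD (E n)) (hL : IsHocolim E f L i)
    (g : C ⟶ L) : ∃ (n : ℕ) (g' : C ⟶ E n), g' ≫ i n = g := by
  classical
  have hinj : ∀ y : C ⟶ (∐ E)⟦(1 : ℤ)⟧, y ≫ (𝟙 (∐ E) - shiftMap E f)⟦(1 : ℤ)⟧' = 0 → y = 0 := by
    intro y hy
    let e : C⟦(-1 : ℤ)⟧⟦(1 : ℤ)⟧ ≅ C := (shiftFunctorCompIsoId _ (-1 : ℤ) 1 (by simp)).app C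
    obtain ⟨y0, hy0⟩ := (shiftFunctor (DCoh.D X) (1 : ℤ)).map_surjective (e.hom ≫ y)
    have : y0 ≫ (𝟙 (∐ E) - shiftMap E f) = 0 := by
      apply (shiftFunctor (DCoh.D X) (1 : ℤ)).map_injective
      rw [Functor.map_comp, hy0, Category.assoc, hy, comp_zero, Functor.map_zero]
    have := eq_zero_of_finFactor_comp_one_sub_shiftMap E f
      (finFactor_of_perfect (isPerfect_shift hC (-1)) hE y0) this
    rw [← cancel_epi e.hom, ← hy0, this, Functor.map_zero, comp_zero]
  obtain ⟨ψ, rfl⟩ := TriCat.IsHocolim.exists_lift_of_injective hL hinj g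
  obtain ⟨s, a, rfl⟩ := finFactor_of_perfect hC hE ψ
  refine ⟨s.sup id, ∑ j ∈ s, if h : j ≤ s.sup id then
    a j ≫ (Functor.ofSequence f).map (homOfLE h) else 0, ?_⟩
  rw [Preadditive.sum_comp, Preadditive.sum_comp]
  refine Finset.sum_congr rfl fun j hj => ?_
  have h : j ≤ s.sup id := Finset.le_sup (f := id) hj
  have hw : (Functor.ofSequence f).map (homOfLE h) ≫ i (s.sup id) = i j :=
    cocone_of_succ (Functor.ofSequence f) i (fun k => by
      rw [show (Functor.ofSequence f).map (homOfLE (Nat.le_succ k)) = f k from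
        Functor.ofSequence_map_homOfLE_succ f k]
      exact TriCat.IsHocolim.comp_i hL k) h
  rw [dif_pos h]
  exact (Category.assoc _ _ _).trans ((congrArg (a j ≫ ·) (hw.trans
    (Sigma.ι_desc i j).symm)).trans (Category.assoc _ _ _).symm)

/-- An object with countable sections of cohomology is a homotopy colimit of perfect objects. -/
theorem exists_hocolim_of_countable [HasColimitsOfShape (Discrete ℕ) (DCoh.D X)]
    (hX : ∀ U : X.Opens, IsAffineOpen U → Countable (X.presheaf.obj (Opposite.op U)))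
    {G : DCoh.D X} (hG : DCoh.IsPerfect G)
    (hgen : ∀ E : DCoh.D X, DCoh.IsQCohD E → (∀ (n : ℤ) (φ : G⟦n⟧ ⟶ E), φ = 0) → IsZero E)
    {K : DCoh.D X} (hK : DCoh.IsQCohD K)
    (hc : ∀ V : X.Opens, IsAffineOpen V → ∀ i : ℤ, Countable Γ(DCoh.HD K i, V)) :
    ∃ (E : ℕ → DCoh.D X) (f : ∀ n, E n ⟶ E (n + 1)) (i : ∀ n, E n ⟶ K),
      (∀ n, DCoh.IsPerfect (E n)) ∧ IsHocolim E f K i := by
  have hGk : ∀ a, DCoh.IsPerfect (G⟦kf a⟧) := fun a => isPerfect_shift hG _
  have hel : ∀ a, ∃ e : ℕ → (G⟦kf a⟧ ⟶ K), Function.Surjective e := fun a => by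
    haveI := CountHom7.countHom_of_isPerfect hK hc (hGk a) 0
    haveI : Countable (G⟦kf a⟧ ⟶ K) :=
      Function.Injective.countable (f := fun φ : G⟦kf a⟧ ⟶ K => φ ≫ (shiftFunctorZero _ ℤ).inv.app K)
        fun φ φ' h => (cancel_mono ((shiftFunctorZero _ ℤ).inv.app K)).1 h
    exact exists_surjective_nat _
  choose elem helem using hel
  have hen : ∀ a, ∃ e : ℕ → (G⟦kf a⟧ ⟶ G), Function.Surjective e := fun a =>
    haveI := countable_hom_perfect hX (hGk a) hG
    exists_surjective_nat _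
  choose e₀ he₀ using hen
  let s : ℕ → State G K := Nat.rec ⟨G, 0, hG, fun _ => e₀⟩
    fun N S => (exists_state_step hX hG elem N S).choose
  let f : ∀ n, (s n).P ⟶ (s (n + 1)).P := fun n => (exists_state_step hX hG elem n (s n)).choose_spec.choose
  have hstep := fun n => (exists_state_step hX hG elem n (s n)).choose_spec.choose_spec
  have hw : ∀ n, f n ≫ (s (n + 1)).α = (s n).α := fun n => (hstep n).1
  have hlift := fun n => (hstep n).2.1
  have hkill := fun n => (hstep n).2.2.1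
  have hpend : ∀ n m a b, m ≠ n + 1 → (s (n + 1)).pend m a b = (s n).pend m a b ≫ f n :=
    fun n => (hstep n).2.2.2.1
  have hsurj : ∀ m a, Function.Surjective ((s m).pend m a) := by
    intro m a
    cases m with
    | zero => exact he₀ a
    | succ n => exact (hstep n).2.2.2.2 a
  obtain ⟨L, j, hL⟩ := TriCat.exists_isHocolim (fun n => (s n).P) f
  have hj : ∀ n, f n ≫ j (n + 1) = j n := fun n => TriCat.IsHocolim.comp_i hL n
  obtain ⟨φ, hφ⟩ := TriCat.IsHocolim.exists_desc hL (fun n => (s n).α) hw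
  have hpush : ∀ {C : DCoh.D X} (c : ∀ n, (s n).P ⟶ C), (∀ n, f n ≫ c (n + 1) = c n) →
      ∀ m a b N, m ≤ N → (s N).pend m a b ≫ c N = (s m).pend m a b ≫ c m := by
    intro C c hc' m a b N hN
    induction N, hN using Nat.le_induction with
    | base => rfl
    | succ N hmN ih => rw [hpend N m a b (by omega), Category.assoc, hc', ih]
  have hEq : ∀ n, DCoh.IsQCohD (s n).P := fun n => PerfSeq.isQCohD_of_perfect (s n).perf
  have hLq : DCoh.IsQCohD L := by
    obtain ⟨c, hT⟩ := hL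
    haveI : HasCoproduct (fun k : ULift.{u} ℕ => (s k.down).P) :=
      haveI : HasColimitsOfShape (Discrete (ULift.{u} ℕ)) (DCoh.D X) :=
        hasColimitsOfShape_of_equivalence (Discrete.equivalence Equiv.ulift.symm)
      inferInstance
    have hS : DCoh.IsQCohD (∐ fun n => (s n).P) :=
      isQCohD_of_iso
        ({ hom := Sigma.desc fun k => Sigma.ι (fun n => (s n).P) k.down
           inv := Sigma.desc fun n => Sigma.ι (fun k : ULift.{u} ℕ => (s k.down).P) ⟨n⟩
           hom_inv_id := by ext ⟨n⟩; simp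
           inv_hom_id := by ext n; simp } : (∐ fun k : ULift.{u} ℕ => (s k.down).P) ≅ _)
        (Groth.Agent.S1040.result X (fun k : ULift.{u} ℕ => (s k.down).P) fun k => hEq k.down)
    exact fun i => isQCohD_obj₃ hT hS hS i
  have hbij : ∀ n : ℤ, Function.Bijective fun ψ : G⟦n⟧ ⟶ L => ψ ≫ φ := by
    intro k
    obtain ⟨a, rfl⟩ := kf_surjective k
    refine ⟨fun ψ ψ' h => ?_, fun ψ => ?_⟩
    · obtain ⟨n, g, hg⟩ := exists_factor_of_perfect (hGk a) hEq hL (ψ - ψ')
      obtain ⟨b, rfl⟩ := hsurj n a g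
      have h0 : (s n).pend n a b ≫ (s n).α = 0 := by
        rw [← hφ n, ← Category.assoc, hg, Preadditive.sub_comp, sub_eq_zero]
        exact h
      let N := Nat.pair n (Nat.pair a b)
      have hnN : n ≤ N := Nat.left_le_pair _ _
      have h1 : (s N).pend n a b ≫ f N = 0 := hkill N n a b rfl
        ((hpush (fun n => (s n).α) hw n a b N hnN).trans h0)
      have h2 : (s N).pend n a b ≫ j N = 0 := by rw [← hj N, ← Category.assoc, h1, zero_comp]
      rw [← sub_eq_zero, ← hg, ← hpush j hj n a b N hnN]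
      exact h2
    · obtain ⟨b, hb⟩ := helem a ψ
      obtain ⟨t, ht⟩ := hlift (Nat.pair a b) a b rfl
      refine ⟨t ≫ (j (Nat.pair a b + 1) : _ ⟶ L), ?_⟩
      show (t ≫ (j (Nat.pair a b + 1) : _ ⟶ L)) ≫ φ = ψ
      rw [Category.assoc, hφ, ← hb]
      exact ht
  haveI : IsIso φ := by
    obtain ⟨C, g, d, hT⟩ := distinguished_cocone_triangle φ
    refine (Triangle.isZero₃_iff_isIso₁ _ hT).1 (hgen C (fun i => isQCohD_obj₃ hT hLq hK i) ?_)
    intro n ψ
    have h1 : ψ ≫ d = 0 := by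
      let A := G⟦n - 1⟧
      let e : A⟦(1 : ℤ)⟧ ≅ G⟦n⟧ := ((shiftFunctorAdd' (DCoh.D X) (n - 1) 1 n (by omega)).app G).symm
      obtain ⟨y, hy⟩ := (shiftFunctor (DCoh.D X) (1 : ℤ)).map_surjective (e.hom ≫ ψ ≫ d)
      have hy0 : y ≫ φ = 0 := by
        apply (shiftFunctor (DCoh.D X) (1 : ℤ)).map_injective
        rw [Functor.map_comp, hy, Functor.map_zero, Category.assoc, Category.assoc]
        erw [comp_distTriang_mor_zero₃₁ _ hT]
        simp
      have hy' : y = 0 := (hbij (n - 1)).1 (show y ≫ φ = 0 ≫ φ by rw [hy0, zero_comp])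
      rw [← cancel_epi e.hom, ← hy, hy', Functor.map_zero, comp_zero]
    obtain ⟨χ, hχ⟩ := Triangle.coyoneda_exact₃ _ hT ψ h1
    obtain ⟨χ', hχ'⟩ := (hbij n).2 χ
    rw [hχ, ← hχ']
    show (χ' ≫ φ) ≫ g = 0
    rw [Category.assoc]
    erw [comp_distTriang_mor_zero₁₂ _ hT]
    exact comp_zero
  obtain ⟨c, hc'⟩ := hL
  refine ⟨fun n => (s n).P, f, fun n => (s n).α, fun n => (s n).perf, inv φ ≫ c,
    isomorphic_distinguished _ hc' _
      (Triangle.isoMk _ _ (Iso.refl _) (Iso.refl _) (asIso φ).symm ?_ ?_ ?_)⟩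
  · exact (Category.comp_id _).trans (Category.id_comp _).symm
  · show Sigma.desc (fun n => (s n).α) ≫ inv φ = 𝟙 _ ≫ Sigma.desc j
    rw [Category.id_comp, IsIso.comp_inv_eq]
    refine Sigma.hom_ext _ _ fun n => ?_
    simp [hφ n]
  · simp

end Groth.Agent.CountPerf
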