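import Groth.Agent.KFlatLib.Scheme.TildeD
import Groth.Agent.KFlatLib.Scheme.PCQCoh
import Groth.Agent.KFlatLib.Scheme.RHomLocal
import Groth.Agent.S1105
import Groth.Prelude.Def_HTor
import Mathlib.LinearAlgebra.Finsupp.LinearCombination
import Mathlib.Data.Countable.Basic
import Mathlib.Data.Finsupp.Encodable
import Groth.Agent.KFlatLib.Scheme.EvalPerfect
import Groth.Agent.QCoh.Tilde

/-! # Countability of sections of cohomology sheaves -/

set_option autoImplicit false
set_option linter.style.haveILetI false
set_option backward.isDefEq.respectTransparency false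

universe u

open CategoryTheory CategoryTheory.Limits AlgebraicGeometry Opposite

attribute [local instance] HasDerivedCategory.standard

namespace Groth.Agent.CountPerf

open Groth.Agent.KFlatLib

lemma countable_module_finite {A : Type u} [CommRing A] [Countable A] (M : Type u) [AddCommGroup M]
    [Module A M] [Module.Finite A M] : Countable M := by
  obtain ⟨n, f, hf⟩ := Module.Finite.exists_fin' A M
  exact hf.countable

lemma countable_span {A : Type u} [CommRing A] [Countable A] {M : Type u} [AddCommGroup M]
    [Module A M] (s : Set M) (hs : s.Countable) : Countable (Submodule.span A s) := by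
  haveI := hs.to_subtype
  haveI : Countable (s →₀ A) := inferInstance
  rw [Finsupp.span_eq_range_linearCombination]
  exact (LinearMap.surjective_rangeRestrict (Finsupp.linearCombination A (Subtype.val : s → M))).countable

lemma countable_of_iso {A : Type u} [CommRing A] {M N : ModuleCat.{u} A} (e : M ≅ N) [Countable M] :
    Countable N := e.toLinearEquiv.surjective.countable

lemma countable_H_of_isPerfect {A : Type u} [CommRing A] [Countable A]
    (K : DerivedCategory (ModuleCat.{u} A)) (hK : DRing.IsPerfect A K) (i : ℤ) :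
    Countable ((DerivedCategory.homologyFunctor (ModuleCat.{u} A) i).obj K) := by
  obtain ⟨E, a, b, -, hP, ⟨e⟩⟩ := hK
  haveI : Countable (E.X i) := haveI := (hP i).1; countable_module_finite (A := A) (E.X i)
  haveI : Countable (E.cycles i) :=
    ((ModuleCat.mono_iff_injective _).1 (inferInstance : Mono (E.iCycles i))).countable
  haveI : Countable ((HomologicalComplex.homologyFunctor (ModuleCat.{u} A) (ComplexShape.up ℤ) i).obj E) :=
    ((ModuleCat.epi_iff_surjective _).1 (inferInstance : Epi (E.homologyπ i))).countable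
  exact countable_of_iso (((DerivedCategory.homologyFunctorFactors (ModuleCat.{u} A) i).app E).symm ≪≫
    (DerivedCategory.homologyFunctor (ModuleCat.{u} A) i).mapIso e)

variable {X : Scheme.{u}}

lemma image_top_fromSpec {U : X.Opens} (hU : IsAffineOpen U) : hU.fromSpec ''ᵁ ⊤ = U :=
  (Scheme.Hom.image_top_eq_opensRange _).trans hU.opensRange_fromSpec

/-- Sections on an affine open, from the module on the corresponding spectrum. -/
lemma countable_sections_of_tilde {U : X.Opens} (hU : IsAffineOpen U) (M : X.Modules)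
    (N : ModuleCat.{u} Γ(X, U)) [Countable N]
    (e : (tilde.functor Γ(X, U)).obj N ≅ M.restrict hU.fromSpec) : Countable Γ(M, U) := by
  haveI : Countable Γ((tilde.functor Γ(X, U)).obj N, ⊤) :=
    (tilde.isoTop N).toLinearEquiv.surjective.countable
  have h1 : Countable Γ(M, hU.fromSpec ''ᵁ ⊤) := by
    let ea : Γ((tilde.functor Γ(X, U)).obj N, ⊤) ≅ Γ(M.restrict hU.fromSpec, ⊤) :=
      ((Scheme.Modules.toPresheaf _).mapIso e).app (op ⊤)
    exact ea.addCommGroupIsoToAddEquiv.surjective.countable
  rwa [image_top_fromSpec hU] at h1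

/-- The cohomology sheaves of perfect objects have countable sections over affine opens. -/
theorem countable_HD_of_isPerfect (hX : ∀ U : X.Opens, IsAffineOpen U → Countable (X.presheaf.obj (op U)))
    {P : DCoh.D X} (hP : DCoh.IsPerfect P) (hq : DCoh.IsQCohD P) (U : X.Opens) (hU : IsAffineOpen U)
    (i : ℤ) : Countable Γ(DCoh.HD P i, U) := by
  haveI : Countable Γ(X, U) := hX U hU
  haveI : PreservesColimitsOfSize.{0, 0} (tilde.functor Γ(X, U)) :=
    (tilde.adjunction (R := Γ(X, U))).leftAdjoint_preservesColimits
  haveI : PreservesFiniteColimits (tilde.functor Γ(X, U)) :=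
    PreservesColimitsOfSize.preservesFiniteColimits _
  obtain ⟨M, ⟨α⟩⟩ := exists_tildeD_iso (R := Γ(X, U)) (isQCohD_rho hU.fromSpec hq)
  have hperf : DCoh.IsPerfect ((DCoh.tildeD Γ(X, U)).obj M) :=
    (isPerfect_iff _).2 ((((isPerfect_iff P).1 hP).restrict' hU.fromSpec).of_iso α.symm)
  have hM : DRing.IsPerfect Γ(X, U) M := (Groth.Agent.S1105.result Γ(X, U) M).1 hperf
  haveI := countable_H_of_isPerfect M hM i
  exact countable_sections_of_tilde hU _ _
    (((mapDCHomologyIso (tilde.functor Γ(X, U)) i).app M).symm ≪≫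
      (DerivedCategory.homologyFunctor _ i).mapIso α ≪≫ restrictHDIso hU.fromSpec P i)

/-- A qcoh sheaf which is jointly covered by sheaves with countable sections has countable sections. -/
theorem countable_of_jointly_epi {ι : Type} [Countable ι]
    (hX : ∀ U : X.Opens, IsAffineOpen U → Countable (X.presheaf.obj (op U)))
    (F : ι → X.Modules) (G : X.Modules) (p : ∀ n, F n ⟶ G) (hF : ∀ n, Coh.IsQCoh (F n))
    (hG : Coh.IsQCoh G) (U : X.Opens) (hU : IsAffineOpen U) (hc : ∀ n, Countable Γ(F n, U))
    (hp : ∀ {Q : (Spec Γ(X, U)).Modules} (q : G.restrict hU.fromSpec ⟶ Q),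
      (∀ n, (Scheme.Modules.restrictFunctor hU.fromSpec).map (p n) ≫ q = 0) → q = 0) :
    Countable Γ(G, U) := by
  haveI : Countable Γ(X, U) := hX U hU
  let R := Γ(X, U)
  haveI : PreservesColimitsOfSize.{0, 0} (tilde.functor R) :=
    (tilde.adjunction (R := R)).leftAdjoint_preservesColimits
  obtain ⟨M, ⟨eM⟩⟩ := QCoh.isQCoh_spec_iff.1 (QCoh.isQCoh_restrict hU.fromSpec hG)
  let eG := eM.symm
  have hN : ∀ n, ∃ N : ModuleCat.{u} R, Countable N ∧
      Nonempty ((tilde.functor R).obj N ≅ (F n).restrict hU.fromSpec) := by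
    intro n
    obtain ⟨N, ⟨eN⟩⟩ := QCoh.isQCoh_spec_iff.1 (QCoh.isQCoh_restrict hU.fromSpec (hF n))
    refine ⟨N, ?_, ⟨eN⟩⟩
    haveI h0 : Countable Γ(F n, hU.fromSpec ''ᵁ ⊤) := by rw [image_top_fromSpec hU]; exact hc n
    let ea : Γ((F n).restrict hU.fromSpec, ⊤) ≅ Γ((tilde.functor R).obj N, ⊤) :=
      (((Scheme.Modules.toPresheaf _).mapIso eN).app (op ⊤)).symm
    haveI : Countable Γ((F n).restrict hU.fromSpec, ⊤) := h0
    haveI : Countable Γ((tilde.functor R).obj N, ⊤) := ea.addCommGroupIsoToAddEquiv.surjective.countable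
    exact @Function.Injective.countable _ _ ‹Countable Γ((tilde.functor R).obj N, ⊤)› _
      (tilde.isoTop N).toLinearEquiv.injective
  choose N hNc eN using hN
  have hψ : ∀ n, ∃ ψ : N n ⟶ M, (tilde.functor R).map ψ =
      (eN n).some.hom ≫ (Scheme.Modules.restrictFunctor hU.fromSpec).map (p n) ≫ eG.hom :=
    fun n => (tilde.functor R).map_surjective _
  choose ψ hψ using hψ
  let s : Set M := ⋃ n, Set.range (ψ n).hom
  have hs : s.Countable := Set.countable_iUnion fun n => haveI := hNc n; Set.countable_range _
  let S : Submodule R M := Submodule.span R s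
  have htop : S = ⊤ := by
    let π : M ⟶ ModuleCat.of R (M ⧸ S) := ModuleCat.ofHom S.mkQ
    have h0 : eG.hom ≫ (tilde.functor R).map π = 0 := by
      refine hp _ fun n => ?_
      have hz : ψ n ≫ π = 0 := ModuleCat.hom_ext (LinearMap.ext fun x =>
        (Submodule.Quotient.mk_eq_zero S).2 (Submodule.subset_span (Set.mem_iUnion.2 ⟨n, x, rfl⟩)))
      have h2 := congrArg ((tilde.functor R).map) hz
      rw [Functor.map_comp, hψ n, Functor.map_zero, Category.assoc, Category.assoc] at h2
      exact (cancel_epi (eN n).some.hom).1 (h2.trans comp_zero.symm)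
    have hπ : π = 0 := (tilde.functor R).map_injective
      (((cancel_epi eG.hom).1 (h0.trans comp_zero.symm)).trans (Functor.map_zero _ _ _).symm)
    refine Submodule.eq_top_iff'.2 fun x => (Submodule.Quotient.mk_eq_zero S).1 ?_
    exact congrArg (fun φ : M ⟶ ModuleCat.of R (M ⧸ S) => φ.hom x) hπ
  haveI : Countable M := by
    haveI := countable_span (A := R) s hs
    have hsurj : Function.Surjective (Subtype.val : S → M) := fun x => ⟨⟨x, htop ▸ trivial⟩, rfl⟩
    exact hsurj.countable
  exact countable_sections_of_tilde hU G M eG.symm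

end Groth.Agent.CountPerf
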